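import Cfsg.Agent.CommGraph.PlaneThree
import Cfsg.Agent.FusionPSL.Upper
import Cfsg.Agent.Linear.Orders
import Cfsg.Agent.Linear.Transvection

/-!
A finite group with the commuting relation of `SL₃(3)` is isomorphic to `SL₃(3)`.
-/

set_option autoImplicit false

namespace Cfsg.Agent.CommGraph.LThree

open Matrix PlaneThree
open scoped MatrixGroups

local notation "S3" => Matrix.SpecialLinearGroup (Fin 3) (ZMod 3)

instance factThree : Fact (Nat.Prime 3) := ⟨by norm_num⟩

def vecF (p : Fin 13) (i : Fin 3) : ZMod 3 := (vecLst.getD p []).getD i 0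

def covF (l : Fin 13) (i : Fin 3) : ZMod 3 := (covLst.getD l []).getD i 0

/-- The matrix `1 + v u`. -/
def rk1 (v u : Fin 3 → ZMod 3) : Matrix (Fin 3) (Fin 3) (ZMod 3) :=
  Matrix.of fun i j => (if i = j then 1 else 0) + v i * u j

theorem det_rk1_flag : ∀ a : Flag, (rk1 (vecF (pt a)) (covF (ln a))).det = 1 := by
  simp only [Matrix.det_fin_three]
  decide +kernel

def tr (a : Flag) : S3 := ⟨rk1 (vecF (pt a)) (covF (ln a)), det_rk1_flag a⟩

theorem adj_iff_commute_mat : ∀ a b : Flag, Adj a b ↔
    rk1 (vecF (pt a)) (covF (ln a)) * rk1 (vecF (pt b)) (covF (ln b)) =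
      rk1 (vecF (pt b)) (covF (ln b)) * rk1 (vecF (pt a)) (covF (ln a)) := by
  decide +kernel

theorem adj_iff_commute (a b : Flag) : Adj a b ↔ Commute (tr a) (tr b) := by
  rw [adj_iff_commute_mat]
  exact ⟨fun h => Subtype.ext h, fun h => congrArg Subtype.val h⟩

theorem tr_ne_one_mat : ∀ a : Flag, rk1 (vecF (pt a)) (covF (ln a)) ≠ 1 := by decide +kernel

theorem tr_ne_one (a : Flag) : tr a ≠ 1 := fun h => tr_ne_one_mat a (congrArg Subtype.val h)

def cjMat (a : Flag) : Matrix (Fin 3) (Fin 3) (ZMod 3) :=
  Matrix.of fun i j => ((conjLst.getD (4 * (a.1 : ℕ) + a.2) []).getD i []).getD j 0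

theorem det_cjMat : ∀ a : Flag, (cjMat a).det = 1 := by
  simp only [Matrix.det_fin_three]
  decide +kernel

def cj (a : Flag) : S3 := ⟨cjMat a, det_cjMat a⟩

/-- The transvection `1 + E₁₃`. -/
def e13 : S3 := Matrix.SpecialLinearGroup.transvection (i := 0) (j := 2) (by decide) 1

theorem cjMat_mul : ∀ a : Flag, cjMat a * (1 + Matrix.single 0 2 1) =
    rk1 (vecF (pt a)) (covF (ln a)) * cjMat a := by decide +kernel

theorem cj_mul (a : Flag) : cj a * e13 = tr a * cj a := by
  apply Subtype.ext
  show cjMat a * (e13 : Matrix (Fin 3) (Fin 3) (ZMod 3)) = _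
  rw [e13, Matrix.SpecialLinearGroup.transvection_coe]
  exact cjMat_mul a

theorem vec_normal : ∀ v0 v1 v2 : ZMod 3, ¬ (v0 = 0 ∧ v1 = 0 ∧ v2 = 0) →
    ∃ (p : Fin 13) (c : ZMod 3), v0 = c * vecF p 0 ∧ v1 = c * vecF p 1 ∧ v2 = c * vecF p 2 := by
  decide +kernel

theorem cov_normal : ∀ v0 v1 v2 : ZMod 3, ¬ (v0 = 0 ∧ v1 = 0 ∧ v2 = 0) →
    ∃ (p : Fin 13) (c : ZMod 3), v0 = c * covF p 0 ∧ v1 = c * covF p 1 ∧ v2 = c * covF p 2 := by
  decide +kernel

theorem inc_of_dot : ∀ p l : Fin 13,
    covF l 0 * vecF p 0 + covF l 1 * vecF p 1 + covF l 2 * vecF p 2 = 0 → inc p l = true := by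
  decide +kernel

theorem rk1_sq : ∀ a : Flag, rk1 (fun i => 2 * vecF (pt a) i) (covF (ln a)) =
    rk1 (vecF (pt a)) (covF (ln a)) * rk1 (vecF (pt a)) (covF (ln a)) := by decide +kernel

theorem tr_pow_three_mat : ∀ a : Flag, rk1 (vecF (pt a)) (covF (ln a)) *
    rk1 (vecF (pt a)) (covF (ln a)) * rk1 (vecF (pt a)) (covF (ln a)) = 1 := by decide +kernel

theorem tr_inv (a : Flag) : (tr a)⁻¹ = tr a * tr a := by
  refine inv_eq_of_mul_eq_one_left ?_
  exact Subtype.ext (tr_pow_three_mat a)

/-- A nontrivial matrix `1 + v u` with `u v = 0` is a flag transvection or its inverse. -/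
theorem eq_tr_of_rk1 (g : S3) (v u : Fin 3 → ZMod 3) (hv : v ≠ 0) (hu : u ≠ 0)
    (hdot : u ⬝ᵥ v = 0) (hg : (g : Matrix (Fin 3) (Fin 3) (ZMod 3)) = rk1 v u) :
    ∃ a, g = tr a ∨ g = (tr a)⁻¹ := by
  obtain ⟨p, c, hp0, hp1, hp2⟩ := vec_normal (v 0) (v 1) (v 2) fun h => hv (by
    funext i; fin_cases i <;> simp [h.1, h.2.1, h.2.2])
  obtain ⟨l, d, hl0, hl1, hl2⟩ := cov_normal (u 0) (u 1) (u 2) fun h => hu (by
    funext i; fin_cases i <;> simp [h.1, h.2.1, h.2.2])
  have hv' : ∀ i, v i = c * vecF p i := by intro i; fin_cases i <;> assumption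
  have hu' : ∀ i, u i = d * covF l i := by intro i; fin_cases i <;> assumption
  have hcd : c * d ≠ 0 := by
    refine mul_ne_zero (fun h => hv ?_) (fun h => hu ?_)
    · funext i; simp [hv' i, h]
    · funext i; simp [hu' i, h]
  have h0 : c * d * (covF l 0 * vecF p 0 + covF l 1 * vecF p 1 + covF l 2 * vecF p 2) = 0 := by
    rw [← hdot]
    simp only [dotProduct, Fin.sum_univ_three, hv', hu']
    ring
  obtain ⟨a, ha1, ha2⟩ := exists_flag (inc_of_dot p l ((mul_eq_zero.1 h0).resolve_left hcd))
  refine ⟨a, ?_⟩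
  have hcases : ∀ x : ZMod 3, x ≠ 0 → x = 1 ∨ x = 2 := by decide
  rcases hcases _ hcd with h | h
  · left
    apply Subtype.ext
    rw [hg]
    show rk1 v u = rk1 (vecF (pt a)) (covF (ln a))
    ext i j
    simp only [rk1, Matrix.of_apply, hv', hu', ha1, ha2]
    linear_combination (vecF p i * covF l j) * h
  · right
    rw [tr_inv]
    apply Subtype.ext
    rw [hg]
    refine Eq.trans ?_ (rk1_sq a)
    ext i j
    simp only [rk1, Matrix.of_apply, hv', hu', ha1, ha2]
    linear_combination (vecF p i * covF l j) * h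

/-- Entry conditions for commuting with `1 + E₁₂`, `1 + E₂₃`. -/
theorem eq_of_commute_upper (x : S3)
    (h1 : Commute x (SpecialLinearGroup.transvection (i := 0) (j := 1) (by decide) 1))
    (h2 : Commute x (SpecialLinearGroup.transvection (i := 1) (j := 2) (by decide) 1)) :
    (x : Matrix (Fin 3) (Fin 3) (ZMod 3)) = 1 + Matrix.single 0 2 (x 0 2) := by
  have e1 := congrArg Subtype.val h1.eq
  have e2 := congrArg Subtype.val h2.eq
  simp only [Cfsg.Agent.Linear.val_mul, SpecialLinearGroup.transvection_coe, mul_add, add_mul,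
    one_mul, mul_one, add_right_inj] at e1 e2
  have E1 := fun i j => congrFun (congrFun e1 i) j
  have E2 := fun i j => congrFun (congrFun e2 i) j
  have a01 := E1 0 0
  have a02 := E1 0 2
  have a03 := E1 1 1
  have a04 := E1 0 1
  have a05 := E1 2 1
  have b01 := E2 1 0
  have b02 := E2 1 1
  have b03 := E2 0 2
  have b04 := E2 1 2
  have b05 := E2 2 2
  simp [Matrix.mul_apply, Fin.sum_univ_three, Matrix.single_apply] at a01 a02 a03 a04 a05 b01 b02 b03 b04 b05
  have hd : (x : Matrix (Fin 3) (Fin 3) (ZMod 3)).det = 1 := x.2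
  rw [Matrix.det_fin_three, a03, ← a02, a05, b05, b03, ← b04, ← a04] at hd
  simp only [mul_zero, zero_mul, sub_zero, add_zero, zero_add] at hd
  have hcube : ∀ y : ZMod 3, y * y * y = y := by decide
  rw [hcube] at hd
  ext i j
  fin_cases i <;> fin_cases j <;>
    simp [Matrix.single_apply, a03, ← a02, a05, b05, b03, ← b04, ← a04, hd]

theorem eq_one_of_commute (x : S3)
    (h1 : Commute x (SpecialLinearGroup.transvection (i := 0) (j := 1) (by decide) 1))
    (h2 : Commute x (SpecialLinearGroup.transvection (i := 1) (j := 2) (by decide) 1))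
    (h3 : Commute x (SpecialLinearGroup.transvection (i := 1) (j := 0) (by decide) 1)) : x = 1 := by
  have hx := eq_of_commute_upper x h1 h2
  have e3 := congrArg Subtype.val h3.eq
  simp only [Cfsg.Agent.Linear.val_mul, SpecialLinearGroup.transvection_coe] at e3
  rw [hx] at e3
  have := congrFun (congrFun e3 1) 2
  simp [Matrix.mul_apply, Fin.sum_univ_three, Matrix.single_apply] at this
  apply Subtype.ext
  rw [hx, ← this]
  simp

/-- The upper unitriangular group, a Sylow 3-subgroup. -/
noncomputable def uSyl : Sylow 3 S3 where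
  toSubgroup := Cfsg.Agent.FusionPSL.utri
  isPGroup' := Cfsg.Agent.FusionPSL.isPGroup_utri 3
  is_maximal' := fun hP hle => le_antisymm (Cfsg.Agent.FusionPSL.utri_maximal 3 hP hle) hle

theorem card_uSyl : Nat.card (uSyl : Subgroup S3) = 27 := by
  show Nat.card (Cfsg.Agent.FusionPSL.utri : Subgroup S3) = 27
  rw [Cfsg.Agent.FusionPSL.card_utri, ZMod.card]
  rfl

theorem transvection_mem_uSyl {i j : Fin 3} (h : i ≠ j) (hij : i < j) (c : ZMod 3) :
    SpecialLinearGroup.transvection h c ∈ (uSyl : Subgroup S3) := by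
  intro r s hsr
  rw [SpecialLinearGroup.transvection_coe, Matrix.add_apply, Matrix.single_apply, if_neg, add_zero]
  rintro ⟨rfl, rfl⟩
  exact absurd hij (not_lt.2 hsr)

theorem e13_commute (g : S3) (hg : g ∈ (uSyl : Subgroup S3)) : Commute g e13 := by
  apply Subtype.ext
  show (g : Matrix (Fin 3) (Fin 3) (ZMod 3)) * (e13 : Matrix (Fin 3) (Fin 3) (ZMod 3)) = _ * _
  rw [e13, SpecialLinearGroup.transvection_coe]
  have h00 := hg 0 0 le_rfl
  have h22 := hg 2 2 le_rfl
  have h10 := hg 1 0 (by decide)
  have h20 := hg 2 0 (by decide)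
  have h21 := hg 2 1 (by decide)
  simp at h00 h22 h10 h20 h21
  ext i j
  fin_cases i <;> fin_cases j <;>
    simp [Matrix.mul_apply, Fin.sum_univ_three, Matrix.single_apply, h00, h22, h10, h20, h21] <;>
    ring

/-- Nontrivial elements centralised by a group of order 27. -/
def IsT {G : Type*} [Group G] (x : G) : Prop :=
  x ≠ 1 ∧ 27 ∣ Nat.card (Subgroup.centralizer ({x} : Set G))

theorem isT_tr (a : Flag) : IsT (tr a) := by
  refine ⟨tr_ne_one a, ?_⟩
  have hinj : Function.Injective ⇑((MulAut.conj (cj a)).toMonoidHom) :=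
    fun x y h => (MulAut.conj (cj a)).injective h
  rw [← card_uSyl, ← Subgroup.card_map_of_injective hinj]
  refine Subgroup.card_dvd_of_le ?_
  rintro _ ⟨g, hg, rfl⟩
  rw [Subgroup.mem_centralizer_singleton_iff]
  have hc : MulAut.conj (cj a) e13 = tr a := by
    rw [MulAut.conj_apply, cj_mul, mul_inv_cancel_right]
  rw [MulEquiv.coe_toMonoidHom, ← hc, ← map_mul, ← map_mul, (e13_commute g hg).eq]

theorem eq_tr_of_isT {x : S3} (hx : IsT x) : ∃ a, x = tr a ∨ x = (tr a)⁻¹ := by
  obtain ⟨Q, hQ⟩ := Sylow.exists_subgroup_card_pow_prime 3 (n := 3)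
    (G := ↥(Subgroup.centralizer ({x} : Set S3))) hx.2
  set R : Subgroup S3 := Q.map (Subgroup.centralizer ({x} : Set S3)).subtype with hR
  have hRc : Nat.card R = 27 := by
    rw [hR, ← Nat.card_congr (Q.equivMapOfInjective _ (Subgroup.subtype_injective _)).toEquiv, hQ]
    rfl
  obtain ⟨P, hP⟩ := (IsPGroup.of_card (p := 3) (n := 3) hRc : IsPGroup 3 R).exists_le_sylow
  obtain ⟨g, hg⟩ := MulAction.exists_smul_eq S3 uSyl P
  have hPc : Nat.card (P : Subgroup S3) = 27 := by
    rw [← card_uSyl]
    exact Nat.card_congr (uSyl.equiv P).toEquiv.symm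
  have hRP : R = P := Subgroup.eq_of_le_of_card_ge hP (by rw [hRc, hPc])
  have hcom : ∀ u ∈ (uSyl : Subgroup S3), Commute (g * u * g⁻¹) x := by
    intro u hu
    have hmem : g * u * g⁻¹ ∈ R := by
      rw [hRP, ← hg]
      exact Subgroup.smul_mem_pointwise_smul u (MulAut.conj g) _ hu
    obtain ⟨q, -, hq⟩ := hmem
    rw [← hq]
    exact Subgroup.mem_centralizer_singleton_iff.1 q.2
  set y := g⁻¹ * x * g with hy
  have hcy : ∀ u ∈ (uSyl : Subgroup S3), Commute y u := by
    intro u hu
    have h := (hcom u hu).eq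
    show g⁻¹ * x * g * u = u * (g⁻¹ * x * g)
    calc g⁻¹ * x * g * u = g⁻¹ * (x * (g * u * g⁻¹)) * g := by group
      _ = g⁻¹ * ((g * u * g⁻¹) * x) * g := by rw [h]
      _ = u * (g⁻¹ * x * g) := by group
  have hyv := eq_of_commute_upper y (hcy _ (transvection_mem_uSyl _ (by decide) 1))
    (hcy _ (transvection_mem_uSyl _ (by decide) 1))
  set c := (y : Matrix (Fin 3) (Fin 3) (ZMod 3)) 0 2
  set G := (g : Matrix (Fin 3) (Fin 3) (ZMod 3))
  set G' := ((g⁻¹ : S3) : Matrix (Fin 3) (Fin 3) (ZMod 3))
  have hGG : G * G' = 1 := congrArg Subtype.val (mul_inv_cancel g)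
  have hG'G : G' * G = 1 := congrArg Subtype.val (inv_mul_cancel g)
  have hxm : (x : Matrix (Fin 3) (Fin 3) (ZMod 3)) =
      rk1 (fun i => G i 0 * c) (fun j => G' 2 j) := by
    have hxy : x = g * y * g⁻¹ := by rw [hy]; group
    rw [hxy, Cfsg.Agent.Linear.val_mul, Cfsg.Agent.Linear.val_mul, hyv, mul_add, add_mul, mul_one,
      hGG]
    ext i j
    fin_cases i <;> fin_cases j <;>
      simp [rk1, Matrix.mul_apply, Fin.sum_univ_three, Matrix.single_apply, G, G']
  have hdot : (fun j => G' 2 j) ⬝ᵥ (fun i => G i 0 * c) = 0 := by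
    have := congrFun (congrFun hG'G 2) 0
    simp [Matrix.mul_apply, Fin.sum_univ_three] at this
    simp only [dotProduct, Fin.sum_univ_three]
    linear_combination c * this
  refine eq_tr_of_rk1 x _ _ (fun h => hx.1 ?_) (fun h => hx.1 ?_) hdot hxm
  · apply Subtype.ext
    rw [hxm, h]
    ext i j
    simp [rk1, Matrix.one_apply]
  · apply Subtype.ext
    rw [hxm, h]
    ext i j
    simp [rk1, Matrix.one_apply]

theorem commute_inv_tr (z : S3) (a : Flag) : Commute z (tr a)⁻¹ ↔ Commute z (tr a) :=
  Commute.inv_right_iff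

theorem flag_of_same_centralizer {a b : Flag}
    (h : ∀ z, Commute z (tr a) ↔ Commute z (tr b)) : a = b := by
  by_contra hne
  obtain ⟨c, hc⟩ := flags_separated a b hne
  exact hc (by rw [adj_iff_commute, adj_iff_commute]; exact h (tr c))

theorem eq_tr_of_same_centralizer {x : S3} (hx : IsT x) {a : Flag}
    (h : ∀ z, Commute z x ↔ Commute z (tr a)) : x = tr a ∨ x = (tr a)⁻¹ := by
  obtain ⟨b, rfl | rfl⟩ := eq_tr_of_isT hx
  · exact Or.inl (by rw [flag_of_same_centralizer h])
  · exact Or.inr (by rw [flag_of_same_centralizer fun z => (commute_inv_tr z b).symm.trans (h z)])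

theorem card_SThree : Nat.card S3 = 5616 := by
  have h := Cfsg.Agent.Linear.card_SL_mul (F := ZMod 3) 3
  simp [Fin.prod_univ_three, ZMod.card, -Nat.card_eq_fintype_card] at h
  omega

theorem isSimpleGroup_SThree : IsSimpleGroup S3 := by
  haveI : Nontrivial S3 := Finite.one_lt_card_iff_nontrivial.1 (by rw [card_SThree]; norm_num)
  haveI : IsSimpleGroup (Matrix.ProjectiveSpecialLinearGroup (Fin 3) (ZMod 3)) :=
    Cfsg.Agent.Linear.isSimpleGroup_PSL (by simp)
  have hc : Subgroup.center S3 = ⊥ := by
    rw [Subgroup.eq_bot_iff_forall]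
    intro z hz
    exact eq_one_of_commute z (Subgroup.mem_center_iff.1 hz _).symm
      (Subgroup.mem_center_iff.1 hz _).symm (Subgroup.mem_center_iff.1 hz _).symm
  exact IsSimpleGroup.isSimpleGroup_of_surjective
    (((QuotientGroup.quotientMulEquivOfEq hc).trans QuotientGroup.quotientBot) :
      Matrix.ProjectiveSpecialLinearGroup (Fin 3) (ZMod 3) ≃* S3).toMonoidHom
    (MulEquiv.surjective _)

/-- A small subgroup index forces the whole group. -/
theorem eq_top_of_index_le_eight (M : Subgroup S3) (hM : M.index ≤ 8) : M = ⊤ := by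
  by_contra hne
  haveI := isSimpleGroup_SThree
  rcases M.normalCore_normal.eq_bot_or_eq_top with h | h
  · have hinj : Function.Injective (MulAction.toPermHom S3 (S3 ⧸ M)) := by
      rw [← MonoidHom.ker_eq_bot_iff, ← Subgroup.normalCore_eq_ker, h]
    have hd := Subgroup.card_dvd_of_injective _ hinj
    rw [card_SThree, Nat.card_perm, ← Subgroup.index_eq_card] at hd
    have h13 : (13 : ℕ) ∣ Nat.factorial M.index := dvd_trans (by norm_num) hd
    have := (Nat.Prime.dvd_factorial (by norm_num : Nat.Prime 13)).1 h13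
    omega
  · exact hne (eq_top_iff.2 (h ▸ M.normalCore_le))

section Transfer

variable {H : Type*} [Group H] (e : H ≃ S3)
  (he : ∀ x y, Commute x y ↔ Commute (e x) (e y))

include he

/-- Conjugation by `h`, moved to `SL₃(3)` along the bijection. -/
def psi (_ : ∀ x y, Commute x y ↔ Commute (e x) (e y)) (h : H) (x : S3) : S3 :=
  e (h * e.symm x * h⁻¹)

theorem psi_mul (g h : H) (x : S3) : psi e he (g * h) x = psi e he g (psi e he h x) := by
  simp only [psi, Equiv.symm_apply_apply]
  congr 1
  group

theorem psi_one (x : S3) : psi e he 1 x = x := by simp [psi]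

theorem psi_bij (h : H) : Function.Bijective (psi e he h) := by
  refine Function.bijective_iff_has_inverse.2 ⟨psi e he h⁻¹, fun x => ?_, fun x => ?_⟩ <;>
    rw [← psi_mul] <;> simp [psi_one]

theorem psi_commute (h : H) (x y : S3) :
    Commute (psi e he h x) (psi e he h y) ↔ Commute x y := by
  unfold psi
  rw [← he, Commute.conj_iff]
  conv_rhs => rw [← e.apply_symm_apply x, ← e.apply_symm_apply y, ← he]

theorem centre_of_commute_all {x : S3} (hx : ∀ z, Commute z x) : x = 1 :=
  eq_one_of_commute x (hx _).symm (hx _).symm (hx _).symm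

theorem e_one : e 1 = 1 :=
  centre_of_commute_all e he fun z => by
    rw [← e.apply_symm_apply z, ← he]
    exact Commute.one_right _

theorem psi_isT (h : H) {x : S3} (hx : IsT x) : IsT (psi e he h x) := by
  refine ⟨fun h1 => hx.1 (centre_of_commute_all e he fun z => ?_), ?_⟩
  · exact (psi_commute e he h z x).1 (by rw [h1]; exact Commute.one_right _)
  · rw [show Nat.card (Subgroup.centralizer ({psi e he h x} : Set S3)) =
      Nat.card (Subgroup.centralizer ({x} : Set S3)) from ?_]
    · exact hx.2
    refine (Nat.card_congr ((Equiv.ofBijective _ (psi_bij e he h)).subtypeEquiv fun z => ?_)).symm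
    rw [Subgroup.mem_centralizer_singleton_iff, Subgroup.mem_centralizer_singleton_iff]
    exact (psi_commute e he h z x).symm

theorem exists_beta (h : H) (a : Flag) :
    ∃ b, ∀ z, Commute z (psi e he h (tr a)) ↔ Commute z (tr b) := by
  obtain ⟨b, hb | hb⟩ := eq_tr_of_isT (psi_isT e he h (isT_tr a))
  · exact ⟨b, fun z => by rw [hb]⟩
  · exact ⟨b, fun z => by rw [hb]; exact commute_inv_tr z b⟩

noncomputable def beta (h : H) (a : Flag) : Flag := (exists_beta e he h a).choose

theorem beta_spec (h : H) (a : Flag) (z : S3) :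
    Commute z (psi e he h (tr a)) ↔ Commute z (tr (beta e he h a)) :=
  (exists_beta e he h a).choose_spec z

theorem beta_mul (g h : H) (a : Flag) : beta e he (g * h) a = beta e he g (beta e he h a) := by
  refine flag_of_same_centralizer fun z => ?_
  obtain ⟨w, rfl⟩ := (psi_bij e he g).2 z
  rw [← beta_spec, ← beta_spec, psi_mul, psi_commute, psi_commute, beta_spec]

theorem beta_one (a : Flag) : beta e he 1 a = a :=
  flag_of_same_centralizer fun z => by rw [← beta_spec, psi_one]

/-- The action on flags. -/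
noncomputable def betaHom : H →* Equiv.Perm Flag where
  toFun h :=
    { toFun := beta e he h
      invFun := beta e he h⁻¹
      left_inv := fun a => by rw [← beta_mul, inv_mul_cancel, beta_one]
      right_inv := fun a => by rw [← beta_mul, mul_inv_cancel, beta_one] }
  map_one' := Equiv.ext (beta_one e he)
  map_mul' g h := Equiv.ext (beta_mul e he g h)

theorem beta_adj (h : H) (a b : Flag) : Adj a b ↔ Adj (beta e he h a) (beta e he h b) := by
  rw [adj_iff_commute, adj_iff_commute, ← psi_commute e he h, beta_spec, Commute.symm_iff,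
    beta_spec, Commute.symm_iff]

/-- Elements preserving points. -/
def ptStab : Subgroup H where
  carrier := {h | PresP (beta e he h)}
  one_mem' := by
    show PresP (beta e he 1)
    rw [show beta e he 1 = fun a => a from funext (beta_one e he)]
    exact presP_id
  mul_mem' := fun {g h} hg hh => by
    show PresP (beta e he (g * h))
    rw [show beta e he (g * h) = fun a => beta e he g (beta e he h a) from
      funext (beta_mul e he g h)]
    exact PresP.comp hg hh
  inv_mem' := fun {g} hg => by
    have hfin : IsOfFinOrder g := by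
      haveI : Finite H := Finite.of_equiv _ e.symm
      exact isOfFinOrder_of_finite g
    have hpow : ∀ n : ℕ, PresP (beta e he (g ^ n)) := by
      intro n
      induction n with
      | zero =>
        rw [pow_zero, show beta e he 1 = fun a => a from funext (beta_one e he)]
        exact presP_id
      | succ n ih =>
        rw [pow_succ, show beta e he (g ^ n * g) = fun a => beta e he (g ^ n) (beta e he g a) from
          funext (beta_mul e he _ g)]
        exact PresP.comp ih hg
    show PresP (beta e he g⁻¹)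
    rw [inv_eq_of_mul_eq_one_right (b := g ^ (orderOf g - 1))
      (by rw [← pow_succ', Nat.sub_add_cancel hfin.orderOf_pos, pow_orderOf_eq_one])]
    exact hpow _

theorem mem_collineations {h : H} (hh : h ∈ ptStab e he) :
    betaHom e he h ∈ collineations :=
  ⟨beta_adj e he h, hh⟩

theorem mul_mem_ptStab {g h : H} (hg : g ∉ ptStab e he) (hh : h ∉ ptStab e he) :
    g * h ∈ ptStab e he := by
  have hr : ∀ k : H, k ∉ ptStab e he → RevP (beta e he k) := fun k hk =>
    (dichotomy (betaHom e he k).injective (beta_adj e he k)).resolve_left hk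
  show PresP (beta e he (g * h))
  rw [show beta e he (g * h) = fun a => beta e he g (beta e he h a) from funext (beta_mul e he g h)]
  exact RevP.comp (hr g hg) (hr h hh)

theorem ptStab_index : (ptStab e he).index = 1 ∨ (ptStab e he).index = 2 := by
  by_cases htop : ptStab e he = ⊤
  · exact Or.inl (Subgroup.index_eq_one.2 htop)
  · right
    obtain ⟨a, ha⟩ : ∃ a, a ∉ ptStab e he := by
      by_contra hcon
      push Not at hcon
      exact htop (eq_top_iff.2 fun x _ => hcon x)
    refine Subgroup.index_eq_two_iff.2 ⟨a, fun b => ?_⟩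
    by_cases hb : b ∈ ptStab e he
    · refine Or.inr ⟨hb, fun hba => ha ?_⟩
      simpa using mul_mem (inv_mem hb) hba
    · exact Or.inl ⟨mul_mem_ptStab e he hb ha, hb⟩

theorem fix_or_swap {k : H} (hk : k ∈ (betaHom e he).ker) {x : S3} (hx : IsT x) :
    psi e he k x = x ∨ psi e he k x = x⁻¹ := by
  obtain ⟨a, rfl | rfl⟩ := eq_tr_of_isT hx
  · refine eq_tr_of_same_centralizer (psi_isT e he k (isT_tr a)) fun z => ?_
    rw [beta_spec, show beta e he k a = a from Equiv.ext_iff.1 hk a]
  · have hs : ∀ z, Commute z (psi e he k (tr a)⁻¹) ↔ Commute z (tr a) := by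
      intro z
      obtain ⟨w, rfl⟩ := (psi_bij e he k).2 z
      rw [psi_commute, commute_inv_tr, ← psi_commute e he k, beta_spec,
        show beta e he k a = a from Equiv.ext_iff.1 hk a]
    rcases eq_tr_of_same_centralizer (psi_isT e he k (by
      exact hx)) hs with h | h
    · right; rw [inv_inv]; exact h
    · left; exact h

theorem isT_transvection {i j : Fin 3} (h : i ≠ j) :
    IsT (SpecialLinearGroup.transvection h (1 : ZMod 3) : S3) := by
  have hg : ((SpecialLinearGroup.transvection h (1 : ZMod 3) : S3) :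
      Matrix (Fin 3) (Fin 3) (ZMod 3)) = rk1 (Pi.single i 1) (Pi.single j 1) := by
    rw [SpecialLinearGroup.transvection_coe]
    ext r s
    fin_cases i <;> fin_cases j <;> fin_cases r <;> fin_cases s <;>
      simp_all [rk1, Matrix.single_apply]
  obtain ⟨a, ha | ha⟩ := eq_tr_of_rk1 _ _ _ (by simp) (by simp) (by simp [h]) hg
  · rw [ha]; exact isT_tr a
  · rw [ha]
    refine ⟨inv_ne_one.2 (tr_ne_one a), ?_⟩
    have := (isT_tr a).2
    rwa [show Subgroup.centralizer ({(tr a)⁻¹} : Set S3) =
      Subgroup.centralizer ({tr a} : Set S3) from by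
        ext z
        rw [Subgroup.mem_centralizer_singleton_iff, Subgroup.mem_centralizer_singleton_iff]
        exact commute_inv_tr z a]

theorem betaHom_injective : Function.Injective (betaHom e he) := by
  classical
  haveI : Finite H := Finite.of_equiv _ e.symm
  rw [← MonoidHom.ker_eq_bot_iff, Subgroup.eq_bot_iff_forall]
  set K := (betaHom e he).ker with hK
  set y : Fin 3 → S3 := ![SpecialLinearGroup.transvection (show (0 : Fin 3) ≠ 1 by decide) 1,
    SpecialLinearGroup.transvection (show (1 : Fin 3) ≠ 2 by decide) 1,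
    SpecialLinearGroup.transvection (show (1 : Fin 3) ≠ 0 by decide) 1] with hy
  have hyT : ∀ i, IsT (y i) := by
    intro i
    fin_cases i
    · exact isT_transvection e he (show (0 : Fin 3) ≠ 1 by decide)
    · exact isT_transvection e he (show (1 : Fin 3) ≠ 2 by decide)
    · exact isT_transvection e he (show (1 : Fin 3) ≠ 0 by decide)
  let F : K → (Fin 3 → Bool) := fun k i => decide (psi e he k (y i) = y i)
  have hF : Function.Injective F := by
    intro k l hkl
    have heq : ∀ i, psi e he k (y i) = psi e he l (y i) := by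
      intro i
      have h1 : decide (psi e he k (y i) = y i) = decide (psi e he l (y i) = y i) := congrFun hkl i
      rw [decide_eq_decide] at h1
      by_cases hc : psi e he k (y i) = y i
      · rw [hc, h1.1 hc]
      · rw [(fix_or_swap e he k.2 (hyT i)).resolve_left hc,
          (fix_or_swap e he l.2 (hyT i)).resolve_left fun h => hc (h1.2 h)]
    have hcomm : ∀ i, Commute (e ((l : H)⁻¹ * k)) (y i) := by
      intro i
      have h1 : psi e he ((l : H)⁻¹ * k) (y i) = y i := by
        rw [psi_mul, heq i, ← psi_mul, inv_mul_cancel, psi_one]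
      have h2 := e.apply_eq_iff_eq_symm_apply.1 h1
      rw [← e.apply_symm_apply (y i), ← he]
      exact mul_inv_eq_iff_eq_mul.1 h2
    have h1 := eq_one_of_commute _ (hcomm 0) (hcomm 1) (hcomm 2)
    have h2 : (l : H)⁻¹ * k = 1 := e.injective (h1.trans (e_one e he).symm)
    exact Subtype.ext (inv_mul_eq_one.1 h2).symm
  have hKcard : Nat.card K ≤ 8 := (Nat.card_le_card_of_injective F hF).trans (by simp)
  intro k hk
  by_contra hk1
  set C : Subgroup H := Subgroup.centralizer ({k} : Set H) with hC
  have horbit : C.index ≤ 8 := by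
    let f : H ⧸ C → K := fun q => Quotient.liftOn' q
      (fun g => (⟨g * k * g⁻¹, (betaHom e he).normal_ker.conj_mem k hk g⟩ : K))
      (fun a b hab => by
        apply Subtype.ext
        have hab' : Commute (a⁻¹ * b) k :=
          Subgroup.mem_centralizer_singleton_iff.1 (QuotientGroup.leftRel_apply.1 hab)
        show a * k * a⁻¹ = b * k * b⁻¹
        calc a * k * a⁻¹ = a * ((a⁻¹ * b) * k * (a⁻¹ * b)⁻¹) * a⁻¹ := by
              rw [hab'.eq, mul_inv_cancel_right]
          _ = b * k * b⁻¹ := by group)
    refine (Nat.card_le_card_of_injective f ?_).trans hKcard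
    intro q r hqr
    induction q using QuotientGroup.induction_on with
    | H a =>
      induction r using QuotientGroup.induction_on with
      | H b =>
        have hab : a * k * a⁻¹ = b * k * b⁻¹ := congrArg Subtype.val hqr
        apply QuotientGroup.eq.2
        rw [hC, Subgroup.mem_centralizer_singleton_iff]
        calc a⁻¹ * b * k = a⁻¹ * (b * k * b⁻¹) * b := by group
          _ = a⁻¹ * (a * k * a⁻¹) * b := by rw [hab]
          _ = k * (a⁻¹ * b) := by group
  set D : Subgroup S3 := Subgroup.centralizer ({e k} : Set S3) with hD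
  have hDC : Nat.card D = Nat.card C := by
    refine (Nat.card_congr (e.subtypeEquiv fun z => ?_)).symm
    rw [hC, hD, Subgroup.mem_centralizer_singleton_iff, Subgroup.mem_centralizer_singleton_iff]
    exact he z k
  have hidx : D.index ≤ 8 := by
    have h1 := D.card_mul_index
    rw [hDC, ← Nat.card_congr e, ← C.card_mul_index] at h1
    rw [Nat.eq_of_mul_eq_mul_left Nat.card_pos h1]
    exact horbit
  refine hk1 (e.injective ((centre_of_commute_all e he fun z => ?_).trans (e_one e he).symm))
  exact Subgroup.mem_centralizer_singleton_iff.1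
    (show z ∈ D by rw [eq_top_of_index_le_eight D hidx]; exact Subgroup.mem_top z)

theorem exists_hom_of_card :
    ∀ φ : S3 →* Equiv.Perm Flag, Function.Injective φ → (∀ s, φ s ∈ collineations) →
      ∃ ψ : ptStab e he →* S3, Function.Injective ψ := by
  intro φ hφ hcol
  haveI : Finite (collineations : Set (Equiv.Perm Flag)) := Subtype.finite
  let g : S3 → collineations := fun s => ⟨φ s, hcol s⟩
  have hg : Function.Bijective g := by
    refine Nat.bijective_iff_injective_and_card g |>.2
      ⟨fun a b h => hφ (congrArg Subtype.val h), le_antisymm ?_ ?_⟩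
    · exact Nat.card_le_card_of_injective g fun a b h => hφ (congrArg Subtype.val h)
    · rw [card_SThree]; exact card_collineations_le
  have hmem : ∀ n : ptStab e he, betaHom e he n ∈ φ.range := fun n => by
    obtain ⟨s, hs⟩ := hg.2 ⟨betaHom e he n, mem_collineations e he n.2⟩
    exact ⟨s, congrArg Subtype.val hs⟩
  refine ⟨(MonoidHom.ofInjective hφ).symm.toMonoidHom.comp
    (((betaHom e he).comp (ptStab e he).subtype).codRestrict φ.range hmem), ?_⟩
  intro a b hab
  have h := (MonoidHom.ofInjective hφ).symm.injective hab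
  exact Subtype.ext (betaHom_injective e he (congrArg Subtype.val h))

end Transfer

theorem ptStab_refl_eq_top (he : ∀ x y : S3, Commute x y ↔ Commute (Equiv.refl S3 x) (Equiv.refl S3 y)) :
    ptStab (Equiv.refl S3) he = ⊤ := by
  haveI := isSimpleGroup_SThree
  rcases ptStab_index (Equiv.refl S3) he with h | h
  · exact Subgroup.index_eq_one.1 h
  · rcases (Subgroup.normal_of_index_eq_two h).eq_bot_or_eq_top with h' | h'
    · rw [h', Subgroup.index_bot, card_SThree] at h
      omega
    · exact h'

/-- A group whose commuting relation is that of `SL₃(3)` is isomorphic to it. -/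
theorem nonempty_mulEquiv {H : Type*} [Group H] (e : H ≃ S3)
    (he : ∀ x y, Commute x y ↔ Commute (e x) (e y)) : Nonempty (H ≃* S3) := by
  haveI : Finite H := Finite.of_equiv _ e.symm
  haveI := isSimpleGroup_SThree
  have he0 : ∀ x y : S3, Commute x y ↔ Commute (Equiv.refl S3 x) (Equiv.refl S3 y) :=
    fun _ _ => Iff.rfl
  obtain ⟨ψ, hψ⟩ := exists_hom_of_card e he (betaHom (Equiv.refl S3) he0)
    (betaHom_injective _ he0)
    (fun s => mem_collineations _ he0 (by rw [ptStab_refl_eq_top he0]; exact Subgroup.mem_top s))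
  have hcard : Nat.card H = Nat.card S3 := Nat.card_congr e
  rcases ptStab_index e he with h | h
  · have htop := Subgroup.index_eq_one.1 h
    have hbij : Function.Bijective (ψ.comp (MonoidHom.id H |>.codRestrict (ptStab e he)
        fun x => by rw [htop]; exact Subgroup.mem_top x)) := by
      refine (Nat.bijective_iff_injective_and_card _).2 ⟨?_, hcard⟩
      exact hψ.comp fun a b hab => congrArg Subtype.val hab
    exact ⟨MulEquiv.ofBijective _ hbij⟩
  · exfalso
    have h1 : ψ.range.index = 2 := by
      have h2 := ψ.range.card_mul_index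
      rw [Nat.card_congr (MonoidHom.ofInjective hψ).toEquiv.symm, ← hcard,
        ← (ptStab e he).card_mul_index, h] at h2
      exact Nat.eq_of_mul_eq_mul_left Nat.card_pos h2
    rcases (Subgroup.normal_of_index_eq_two h1).eq_bot_or_eq_top with h' | h'
    · rw [h', Subgroup.index_bot, card_SThree] at h1
      omega
    · rw [h', Subgroup.index_top] at h1
      omega

end Cfsg.Agent.CommGraph.LThree
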