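import Cfsg.Agent.CommGraph.PlaneThreeData

/-!
Automorphisms of the flag graph of the projective plane of order 3 preserve or exchange points and
lines, and at most 5616 of them preserve points.
-/

set_option autoImplicit false

namespace Cfsg.Agent.CommGraph.PlaneThree

abbrev Flag := Fin 13 × Fin 4

def ds (k : Fin 4) : Fin 13 := dsLst.getD k 0

def lineThrough (p q : Fin 13) : Fin 13 := lineLst.getD (13 * (p : ℕ) + q) 0

def pt (a : Flag) : Fin 13 := a.1

def ln (a : Flag) : Fin 13 := a.1 - ds a.2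

def Adj (a b : Flag) : Prop := pt a = pt b ∨ ln a = ln b

instance (a b : Flag) : Decidable (Adj a b) := inferInstanceAs (Decidable (_ ∨ _))

def inc (p l : Fin 13) : Bool := dsLst.contains (p - l)

theorem inc_iff : ∀ p l : Fin 13, inc p l = true ↔ ∃ k : Fin 4, p - ds k = l := by decide +kernel

theorem inc_flag (a : Flag) : inc (pt a) (ln a) = true := (inc_iff _ _).2 ⟨a.2, rfl⟩

theorem exists_flag {p l : Fin 13} (h : inc p l = true) : ∃ a : Flag, pt a = p ∧ ln a = l := by
  obtain ⟨k, hk⟩ := (inc_iff p l).1 h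
  exact ⟨(p, k), rfl, hk⟩

theorem flag_ext : ∀ a b : Flag, pt a = pt b → ln a = ln b → a = b := by decide +kernel

theorem exists_other_pt : ∀ a : Flag, ∃ b : Flag, pt b = pt a ∧ b ≠ a := by decide +kernel

theorem exists_other_ln : ∀ a : Flag, ∃ b : Flag, ln b = ln a ∧ b ≠ a := by decide +kernel

theorem flags_separated : ∀ a b : Flag, a ≠ b → ∃ c : Flag, ¬ (Adj c a ↔ Adj c b) := by
  decide +kernel

theorem lineThrough_inc : ∀ p q : Fin 13,
    inc p (lineThrough p q) = true ∧ inc q (lineThrough p q) = true := by decide +kernel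

theorem line_unique : ∀ p q l : Fin 13, p ≠ q → inc p l = true → inc q l = true →
    l = lineThrough p q := by decide +kernel

def PresP (β : Flag → Flag) : Prop :=
  (∀ a b, pt a = pt b → pt (β a) = pt (β b)) ∧ (∀ a b, ln a = ln b → ln (β a) = ln (β b))

def RevP (β : Flag → Flag) : Prop :=
  (∀ a b, pt a = pt b → ln (β a) = ln (β b)) ∧ (∀ a b, ln a = ln b → pt (β a) = pt (β b))

theorem presP_id : PresP (fun a => a) := ⟨fun _ _ h => h, fun _ _ h => h⟩

theorem PresP.comp {β γ : Flag → Flag} (hβ : PresP β) (hγ : PresP γ) :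
    PresP (fun a => β (γ a)) :=
  ⟨fun a b h => hβ.1 _ _ (hγ.1 a b h), fun a b h => hβ.2 _ _ (hγ.2 a b h)⟩

theorem RevP.comp {β γ : Flag → Flag} (hβ : RevP β) (hγ : RevP γ) :
    PresP (fun a => β (γ a)) :=
  ⟨fun a b h => hβ.2 _ _ (hγ.1 a b h), fun a b h => hβ.1 _ _ (hγ.2 a b h)⟩

section Dichotomy

variable {β : Flag → Flag}

theorem star_cases (hinj : Function.Injective β) (had : ∀ a b, Adj a b → Adj (β a) (β b))
    (key : Flag → Fin 13) (hkey : ∀ a b, key a = key b → Adj a b) (x : Fin 13) :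
    (∀ a b, key a = x → key b = x → pt (β a) = pt (β b)) ∨
      (∀ a b, key a = x → key b = x → ln (β a) = ln (β b)) := by
  by_cases hln : ∀ a b, key a = x → key b = x → ln (β a) = ln (β b)
  · exact Or.inr hln
  left
  push Not at hln
  obtain ⟨a, b, ha, hb, hab⟩ := hln
  have hpab : pt (β a) = pt (β b) :=
    (had a b (hkey a b (ha.trans hb.symm))).resolve_right hab
  have hall : ∀ c, key c = x → pt (β c) = pt (β a) := by
    intro c hc
    by_contra hne
    have h1 := (had c a (hkey c a (hc.trans ha.symm))).resolve_left hne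
    have h2 := (had c b (hkey c b (hc.trans hb.symm))).resolve_left fun h => hne (h.trans hpab.symm)
    exact hab (h1.symm.trans h2)
  intro c d hc hd
  rw [hall c hc, hall d hd]

theorem not_both_pt (hinj : Function.Injective β) (had : ∀ a b, Adj (β a) (β b) → Adj a b)
    (a : Flag) (hp : ∀ c d, pt c = pt a → pt d = pt a → pt (β c) = pt (β d))
    (hl : ∀ c d, ln c = ln a → ln d = ln a → pt (β c) = pt (β d)) : False := by
  obtain ⟨b, hb, hba⟩ := exists_other_pt a
  obtain ⟨c, hc, hca⟩ := exists_other_ln a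
  rcases had b c (Or.inl ((hp b a hb rfl).trans (hl a c rfl hc))) with h | h
  · exact hca (flag_ext c a (h.symm.trans hb) hc)
  · exact hba (flag_ext b a hb (h.trans hc))

theorem not_both_ln (hinj : Function.Injective β) (had : ∀ a b, Adj (β a) (β b) → Adj a b)
    (a : Flag) (hp : ∀ c d, pt c = pt a → pt d = pt a → ln (β c) = ln (β d))
    (hl : ∀ c d, ln c = ln a → ln d = ln a → ln (β c) = ln (β d)) : False := by
  obtain ⟨b, hb, hba⟩ := exists_other_pt a
  obtain ⟨c, hc, hca⟩ := exists_other_ln a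
  rcases had b c (Or.inr ((hp b a hb rfl).trans (hl a c rfl hc))) with h | h
  · exact hca (flag_ext c a (h.symm.trans hb) hc)
  · exact hba (flag_ext b a hb (h.trans hc))

theorem dichotomy (hinj : Function.Injective β) (had : ∀ a b, Adj a b ↔ Adj (β a) (β b)) :
    PresP β ∨ RevP β := by
  set KP : Fin 13 → Prop := fun p => ∀ a b, pt a = p → pt b = p → pt (β a) = pt (β b) with hKP
  set KL : Fin 13 → Prop := fun l => ∀ a b, ln a = l → ln b = l → ln (β a) = ln (β b) with hKL
  have hP := star_cases hinj (fun a b => (had a b).1) pt (fun _ _ => Or.inl)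
  have hL := star_cases hinj (fun a b => (had a b).1) ln (fun _ _ => Or.inr)
  have hiff : ∀ a : Flag, KP (pt a) ↔ KL (ln a) := by
    intro a
    constructor
    · intro h
      rcases hL (ln a) with h' | h'
      · exact (not_both_pt hinj (fun a b => (had a b).2) a h h').elim
      · exact h'
    · intro h
      rcases hP (pt a) with h' | h'
      · exact h'
      · exact (not_both_ln hinj (fun a b => (had a b).2) a h' h).elim
  have hconn : ∀ p q, KP p ↔ KP q := by
    intro p q
    obtain ⟨a, ha1, ha2⟩ := exists_flag (lineThrough_inc p q).1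
    obtain ⟨b, hb1, hb2⟩ := exists_flag (lineThrough_inc p q).2
    rw [← ha1, ← hb1, hiff a, hiff b, ha2, hb2]
  by_cases h0 : KP 0
  · left
    refine ⟨fun a b h => (hconn 0 (pt a)).1 h0 a b rfl h.symm, fun a b h => ?_⟩
    exact (hiff a).1 ((hconn 0 (pt a)).1 h0) a b rfl h.symm
  · right
    have hp : ∀ a, ¬ KP (pt a) := fun a h => h0 ((hconn (pt a) 0).1 h)
    refine ⟨fun a b h => ((hP (pt a)).resolve_left (hp a)) a b rfl h.symm, fun a b h => ?_⟩
    exact ((hL (ln a)).resolve_right fun h' => hp a ((hiff a).2 h')) a b rfl h.symm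

end Dichotomy

section Count

variable {β γ : Flag → Flag}

/-- The induced map on points. -/
def ptMap (β : Flag → Flag) (p : Fin 13) : Fin 13 := pt (β (p, 0))

theorem ptMap_pt (hβ : PresP β) (a : Flag) : pt (β a) = ptMap β (pt a) :=
  hβ.1 a (pt a, 0) rfl

theorem ptMap_inj (hinj : Function.Injective β) (hβ : PresP β) : Function.Injective (ptMap β) := by
  intro p q hpq
  by_contra hne
  obtain ⟨a, ha1, ha2⟩ := exists_flag (lineThrough_inc p q).1
  obtain ⟨b, hb1, hb2⟩ := exists_flag (lineThrough_inc p q).2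
  have hab : β a = β b := flag_ext _ _ (by rw [ptMap_pt hβ, ptMap_pt hβ, ha1, hb1, hpq])
    (hβ.2 a b (ha2.trans hb2.symm))
  exact hne (by rw [← ha1, ← hb1, hinj hab])

theorem ln_eq_lineThrough (hinj : Function.Injective β) (hβ : PresP β) {p q : Fin 13} (hne : p ≠ q)
    {a : Flag} (hp : inc p (ln a) = true) (hq : inc q (ln a) = true) :
    ln (β a) = lineThrough (ptMap β p) (ptMap β q) := by
  obtain ⟨b, hb1, hb2⟩ := exists_flag hp
  obtain ⟨c, hc1, hc2⟩ := exists_flag hq
  refine line_unique _ _ _ (fun h => hne (ptMap_inj hinj hβ h)) ?_ ?_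
  · rw [hβ.2 a b hb2.symm, ← hb1, ← ptMap_pt hβ]
    exact inc_flag _
  · rw [hβ.2 a c hc2.symm, ← hc1, ← ptMap_pt hβ]
    exact inc_flag _

/-- Four points in general position. -/
def frame : List (Fin 13) := [0, 1, 2, 6]

def sides : List (Fin 13) :=
  [lineThrough 0 1, lineThrough 0 2, lineThrough 0 6, lineThrough 1 2, lineThrough 1 6,
    lineThrough 2 6]

def seven : List (Fin 13) :=
  (List.finRange 13).filter fun p => 2 ≤ (sides.filter fun l => inc p l).length

def nine : List (Fin 13) :=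
  (List.finRange 13).filter fun l => 2 ≤ (seven.filter fun p => inc p l).length

theorem two_sides : ∀ l ∈ sides, ∃ p ∈ frame, ∃ q ∈ frame, p ≠ q ∧ inc p l = true ∧ inc q l = true := by
  decide +kernel

theorem two_seven : ∀ p ∈ seven, ∃ l ∈ sides, ∃ m ∈ sides, l ≠ m ∧ inc p l = true ∧ inc p m = true := by
  decide +kernel

theorem two_nine : ∀ l ∈ nine, ∃ p ∈ seven, ∃ q ∈ seven, p ≠ q ∧ inc p l = true ∧ inc q l = true := by
  decide +kernel

theorem two_all : ∀ p : Fin 13, ∃ l ∈ nine, ∃ m ∈ nine, l ≠ m ∧ inc p l = true ∧ inc p m = true := by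
  decide +kernel

theorem two_all_lines : ∀ l : Fin 13, ∃ p q : Fin 13, p ≠ q ∧ inc p l = true ∧ inc q l = true := by
  decide +kernel

theorem eq_of_frame (hi : Function.Injective β) (hi' : Function.Injective γ) (hβ : PresP β)
    (hγ : PresP γ) (h : ∀ p ∈ frame, ptMap β p = ptMap γ p) : β = γ := by
  have hline : ∀ p q, p ≠ q → ptMap β p = ptMap γ p → ptMap β q = ptMap γ q →
      ∀ a, inc p (ln a) = true → inc q (ln a) = true → ln (β a) = ln (γ a) := by
    intro p q hne hp hq a h1 h2
    rw [ln_eq_lineThrough hi hβ hne h1 h2, ln_eq_lineThrough hi' hγ hne h1 h2, hp, hq]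
  have hpoint : ∀ p l m, l ≠ m → inc p l = true → inc p m = true →
      (∀ a, ln a = l → ln (β a) = ln (γ a)) → (∀ a, ln a = m → ln (β a) = ln (γ a)) →
      ptMap β p = ptMap γ p := by
    intro p l m hlm hl hm h1 h2
    obtain ⟨a, ha1, ha2⟩ := exists_flag hl
    obtain ⟨b, hb1, hb2⟩ := exists_flag hm
    by_contra hne
    have hab : a ≠ b := fun e => hlm (by rw [← ha2, ← hb2, e])
    have hp1 := inc_flag (β a)
    have hp2 := inc_flag (γ a)
    have hq1 := inc_flag (β b)
    have hq2 := inc_flag (γ b)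
    rw [ptMap_pt hβ, ha1] at hp1
    rw [ptMap_pt hγ, ha1, ← h1 a ha2] at hp2
    rw [ptMap_pt hβ, hb1] at hq1
    rw [ptMap_pt hγ, hb1, ← h2 b hb2] at hq2
    have hsame : ln (β a) = ln (β b) :=
      (line_unique _ _ _ hne hp1 hp2).trans (line_unique _ _ _ hne hq1 hq2).symm
    exact hab (hi (flag_ext _ _ (by rw [ptMap_pt hβ, ptMap_pt hβ, ha1, hb1]) hsame))
  have hS : ∀ l ∈ sides, ∀ a, ln a = l → ln (β a) = ln (γ a) := by
    intro l hl a ha
    obtain ⟨p, hp, q, hq, hne, h1, h2⟩ := two_sides l hl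
    exact hline p q hne (h p hp) (h q hq) a (ha ▸ h1) (ha ▸ h2)
  have h7 : ∀ p ∈ seven, ptMap β p = ptMap γ p := by
    intro p hp
    obtain ⟨l, hl, m, hm, hne, h1, h2⟩ := two_seven p hp
    exact hpoint p l m hne h1 h2 (hS l hl) (hS m hm)
  have h9 : ∀ l ∈ nine, ∀ a, ln a = l → ln (β a) = ln (γ a) := by
    intro l hl a ha
    obtain ⟨p, hp, q, hq, hne, h1, h2⟩ := two_nine l hl
    exact hline p q hne (h7 p hp) (h7 q hq) a (ha ▸ h1) (ha ▸ h2)
  have hall : ∀ p, ptMap β p = ptMap γ p := by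
    intro p
    obtain ⟨l, hl, m, hm, hne, h1, h2⟩ := two_all p
    exact hpoint p l m hne h1 h2 (h9 l hl) (h9 m hm)
  funext a
  obtain ⟨p, q, hne, h1, h2⟩ := two_all_lines (ln a)
  exact flag_ext _ _ (by rw [ptMap_pt hβ, ptMap_pt hγ, hall])
    (hline p q hne (hall p) (hall q) a h1 h2)

/-- Ordered quadruples in general position. -/
def genPos (q : Fin 13 × Fin 13 × Fin 13 × Fin 13) : Bool :=
  !(q.1 == q.2.1) && !inc q.2.2.1 (lineThrough q.1 q.2.1) &&
    !inc q.2.2.2 (lineThrough q.1 q.2.1) && !inc q.2.2.2 (lineThrough q.1 q.2.2.1) &&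
    !inc q.2.2.2 (lineThrough q.2.1 q.2.2.1)

theorem card_genPos : ∑ a : Fin 13, ∑ b : Fin 13, ∑ c : Fin 13, ∑ d : Fin 13,
    (if genPos (a, b, c, d) then 1 else 0 : ℕ) = 5616 := by decide +kernel

theorem frame_genPos : ∀ q, q = ((0, 1, 2, 6) : Fin 13 × Fin 13 × Fin 13 × Fin 13) →
    genPos q = true := by
  rintro q rfl
  decide +kernel

theorem genPos_ptMap (hi : Function.Injective β) (hβ : PresP β)
    (had : ∀ a b, Adj a b ↔ Adj (β a) (β b)) {a b c d : Fin 13} (h : genPos (a, b, c, d) = true) :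
    genPos (ptMap β a, ptMap β b, ptMap β c, ptMap β d) = true := by
  have hsurj : Function.Surjective β := Finite.surjective_of_injective hi
  have hback : ∀ {p q r : Fin 13}, p ≠ q →
      inc (ptMap β r) (lineThrough (ptMap β p) (ptMap β q)) = true →
      inc r (lineThrough p q) = true := by
    intro p q r hne hr
    obtain ⟨f, hf1, hf2⟩ := exists_flag hr
    obtain ⟨e, rfl⟩ := hsurj f
    obtain ⟨g, hg1, hg2⟩ := exists_flag (lineThrough_inc p q).1
    have hl : ln (β g) = lineThrough (ptMap β p) (ptMap β q) :=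
      ln_eq_lineThrough hi hβ hne (hg2 ▸ (lineThrough_inc p q).1) (hg2 ▸ (lineThrough_inc p q).2)
    have hpe : pt e = r := ptMap_inj hi hβ ((ptMap_pt hβ e).symm.trans hf1)
    rcases (had e g).2 (Or.inr (hf2.trans hl.symm)) with h' | h'
    · rw [← hpe, h', hg1]
      exact (lineThrough_inc p q).1
    · rw [← hpe, ← hg2, ← h']
      exact inc_flag e
  simp only [genPos, Bool.and_eq_true, Bool.not_eq_true', beq_eq_false_iff_ne, ne_eq] at h ⊢
  obtain ⟨⟨⟨⟨h1, h2⟩, h3⟩, h4⟩, h5⟩ := h
  have hne1 : a ≠ c := by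
    rintro rfl
    rw [(lineThrough_inc a b).1] at h2
    simp at h2
  have hne2 : b ≠ c := by
    rintro rfl
    rw [(lineThrough_inc a b).2] at h2
    simp at h2
  have hf : ∀ {p q r}, p ≠ q → inc r (lineThrough p q) = false →
      inc (ptMap β r) (lineThrough (ptMap β p) (ptMap β q)) = false := by
    intro p q r hne hr
    by_contra h'
    rw [Bool.not_eq_false] at h'
    rw [hback hne h'] at hr
    simp at hr
  exact ⟨⟨⟨⟨fun e => h1 (ptMap_inj hi hβ e), hf h1 h2⟩, hf h1 h3⟩, hf hne1 h4⟩, hf hne2 h5⟩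

/-- Point preserving automorphisms of the flag graph. -/
def collineations : Set (Equiv.Perm Flag) :=
  {β | (∀ a b, Adj a b ↔ Adj (β a) (β b)) ∧ PresP β}

theorem card_collineations_le : Nat.card collineations ≤ 5616 := by
  classical
  let f : collineations → {q : Fin 13 × Fin 13 × Fin 13 × Fin 13 // genPos q = true} := fun β =>
    ⟨(ptMap β.1 0, ptMap β.1 1, ptMap β.1 2, ptMap β.1 6),
      genPos_ptMap β.1.injective β.2.2 β.2.1 (frame_genPos _ rfl)⟩
  have hf : Function.Injective f := by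
    intro β γ hbc
    simp only [f, Subtype.mk.injEq, Prod.mk.injEq] at hbc
    obtain ⟨h0, h1, h2, h6⟩ := hbc
    refine Subtype.ext (Equiv.coe_fn_injective
      (eq_of_frame β.1.injective γ.1.injective β.2.2 γ.2.2 ?_))
    intro p hp
    simp only [frame, List.mem_cons, List.not_mem_nil, or_false] at hp
    rcases hp with rfl | rfl | rfl | rfl <;> assumption
  refine (Nat.card_le_card_of_injective f hf).trans (le_of_eq ?_)
  rw [Nat.card_eq_fintype_card, Fintype.card_subtype, Finset.card_filter, ← card_genPos]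
  simp only [Fintype.sum_prod_type]

end Count

end Cfsg.Agent.CommGraph.PlaneThree
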