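import Mathlib

/-!
Tables for the projective plane of order 3 (Singer model: a point `p` is on the line `l` iff
`p - l` lies in the difference set), with matrices conjugating a fixed transvection to each flag.
-/

set_option autoImplicit false

namespace Cfsg.Agent.CommGraph.PlaneThree

def dsLst : List (Fin 13) := [0, 1, 3, 9]

def vecLst : List (List (ZMod 3)) :=
  [[1, 0, 0], [0, 1, 0], [0, 0, 1], [2, 1, 0], [0, 2, 1], [2, 1, 2], [1, 1, 1], [2, 2, 1], [2, 0, 2], [1, 1, 0], [0, 1, 1], [2, 1, 1], [2, 0, 1]]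

def covLst : List (List (ZMod 3)) :=
  [[0, 0, 1], [1, 0, 0], [1, 1, 0], [1, 1, 1], [0, 1, 1], [1, 0, 2], [1, 2, 0], [1, 1, 2], [1, 2, 2], [1, 2, 1], [0, 1, 2], [1, 0, 1], [0, 1, 0]]

def conjLst : List (List (List (ZMod 3))) :=
  [[[1, 0, 0], [0, 1, 0], [0, 0, 1]],
   [[1, 0, 0], [0, 0, 1], [0, 2, 0]],
   [[1, 0, 0], [0, 2, 0], [0, 2, 2]],
   [[1, 0, 0], [0, 1, 0], [0, 2, 1]],
   [[0, 0, 1], [1, 0, 0], [0, 1, 0]],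
   [[0, 2, 0], [1, 0, 0], [0, 0, 1]],
   [[0, 2, 0], [1, 0, 0], [0, 1, 1]],
   [[0, 1, 0], [1, 0, 0], [0, 1, 2]],
   [[0, 1, 0], [0, 2, 1], [1, 0, 0]],
   [[0, 0, 1], [0, 2, 0], [1, 0, 0]],
   [[0, 1, 0], [0, 0, 1], [1, 0, 0]],
   [[0, 2, 0], [0, 2, 1], [2, 0, 0]],
   [[1, 0, 0], [2, 2, 0], [0, 1, 2]],
   [[1, 0, 0], [2, 0, 2], [0, 1, 0]],
   [[1, 0, 0], [2, 2, 0], [0, 0, 2]],
   [[1, 0, 0], [2, 1, 0], [0, 1, 1]],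
   [[0, 1, 0], [1, 0, 0], [2, 0, 2]],
   [[0, 1, 0], [1, 0, 0], [2, 2, 2]],
   [[0, 0, 1], [2, 0, 0], [1, 2, 0]],
   [[0, 2, 0], [1, 0, 0], [2, 2, 1]],
   [[1, 0, 0], [2, 1, 0], [1, 0, 1]],
   [[1, 0, 0], [2, 2, 0], [1, 1, 2]],
   [[1, 0, 0], [2, 0, 2], [1, 1, 0]],
   [[1, 0, 0], [2, 2, 0], [1, 2, 2]],
   [[1, 0, 0], [1, 0, 2], [1, 1, 0]],
   [[1, 0, 0], [1, 2, 0], [1, 0, 2]],
   [[1, 0, 0], [1, 1, 0], [1, 2, 1]],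
   [[1, 0, 0], [1, 2, 0], [1, 2, 2]],
   [[1, 0, 0], [1, 1, 0], [2, 1, 1]],
   [[1, 0, 0], [1, 0, 1], [2, 2, 0]],
   [[1, 0, 0], [1, 2, 0], [2, 1, 2]],
   [[1, 0, 0], [1, 2, 0], [2, 0, 2]],
   [[1, 0, 0], [0, 1, 0], [1, 2, 1]],
   [[1, 0, 0], [0, 1, 0], [1, 1, 1]],
   [[1, 0, 0], [0, 1, 0], [1, 0, 1]],
   [[1, 0, 0], [0, 0, 2], [1, 1, 0]],
   [[1, 0, 0], [1, 1, 0], [0, 1, 1]],
   [[1, 0, 0], [1, 2, 0], [0, 1, 2]],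
   [[1, 0, 0], [1, 0, 2], [0, 1, 0]],
   [[1, 0, 0], [1, 1, 0], [0, 0, 1]],
   [[0, 1, 0], [1, 0, 0], [1, 0, 2]],
   [[0, 2, 0], [1, 0, 0], [1, 1, 1]],
   [[0, 1, 0], [1, 0, 0], [1, 1, 2]],
   [[0, 0, 1], [1, 0, 0], [1, 1, 0]],
   [[1, 0, 0], [2, 2, 0], [2, 0, 2]],
   [[1, 0, 0], [2, 1, 0], [2, 1, 1]],
   [[1, 0, 0], [2, 1, 0], [2, 2, 1]],
   [[1, 0, 0], [2, 0, 2], [2, 1, 0]],
   [[1, 0, 0], [0, 0, 2], [2, 1, 0]],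
   [[1, 0, 0], [0, 2, 0], [2, 0, 2]],
   [[1, 0, 0], [0, 2, 0], [2, 2, 2]],
   [[1, 0, 0], [0, 2, 0], [2, 1, 2]]]

def lineLst : List (Fin 13) :=
  [0, 0, 12, 0, 4, 4, 10, 4, 12, 0, 10, 10, 12,
   0, 0, 1, 0, 1, 5, 5, 11, 5, 0, 1, 11, 11,
   12, 1, 1, 2, 1, 2, 6, 6, 12, 6, 1, 2, 12,
   0, 0, 2, 0, 3, 2, 3, 7, 7, 0, 7, 2, 3,
   4, 1, 1, 3, 1, 4, 3, 4, 8, 8, 1, 8, 3,
   4, 5, 2, 2, 4, 2, 5, 4, 5, 9, 9, 2, 9,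
   10, 5, 6, 3, 3, 5, 3, 6, 5, 6, 10, 10, 3,
   4, 11, 6, 7, 4, 4, 6, 4, 7, 6, 7, 11, 11,
   12, 5, 12, 7, 8, 5, 5, 7, 5, 8, 7, 8, 12,
   0, 0, 6, 0, 8, 9, 6, 6, 8, 0, 9, 8, 9,
   10, 1, 1, 7, 1, 9, 10, 7, 7, 9, 1, 10, 9,
   10, 11, 2, 2, 8, 2, 10, 11, 8, 8, 10, 2, 11,
   12, 11, 12, 3, 3, 9, 3, 11, 12, 9, 9, 11, 3]

end Cfsg.Agent.CommGraph.PlaneThree
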